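import Groth.Agent.Pi1.H391.Stmts3
import Groth.Agent.Pi1.H133.LocBase
import Mathlib.RingTheory.Ideal.GoingDown

/-!
# (S3) of S3689: tameness at the local rings of `O' ⊗[O] R`
-/

set_option autoImplicit false

universe u

open CategoryTheory CategoryTheory.Limits AlgebraicGeometry TensorProduct IsLocalRing

namespace Groth.Agent.Pi1.H560.TameStage

open Groth.Agent.Pi1.H391
open Groth.Agent.Pi1.H415.Glue

/-- The contraction of a minimal prime along a flat algebra is a minimal prime. -/
theorem comap_mem_minimalPrimes {A O : Type u} [CommRing A] [CommRing O] [Algebra A O] [Module.Flat A O]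
    {q : Ideal O} (hq : q ∈ minimalPrimes O) : q.comap (algebraMap A O) ∈ minimalPrimes A := by
  have hqp : q.IsPrime := hq.1.1
  refine ⟨⟨inferInstance, bot_le⟩, ?_⟩
  rintro p ⟨hp, -⟩ hle
  have : Algebra.HasGoingDown A O := Algebra.HasGoingDown.of_flat
  have : q.LiesOver (q.comap (algebraMap A O)) := ⟨rfl⟩
  obtain ⟨P, hPq, hP, hPp⟩ :=
    Ideal.exists_ideal_le_liesOver_of_le (p := p) (q := q.comap (algebraMap A O)) q hle
  have h1 : P = q := le_antisymm hPq (hq.2 ⟨hP, bot_le⟩ hPq)
  subst h1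
  exact hPp.over.ge

theorem tameStage (h : Stmts.TameRing.{u}) : Stmts3.TameStage.{u} := by
  intro X S f r φ x R _ _ _ _ _ V₁ htame _ hAR O _ _ _ _ _ _ _ O' Ω _ _ _ _ _ _ _ hker P _ hP B _ _ _ _ _ K _ _ _
    L _ _ v hv hadj
  let A := S.presheaf.stalk (f x)
  have hlaz : Groth.Agent.Hensel.Lazard.Laz A O :=
    Groth.Agent.Hensel.Lazard.laz_of_isStrictHenselization A O
  have hflat : Module.Flat A O := hlaz.flat
  let _ : Algebra O Ω := ((algebraMap O' Ω).comp (algebraMap O O')).toAlgebra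
  let _ : Algebra A Ω := ((algebraMap O Ω).comp (algebraMap A O)).toAlgebra
  have _ : IsScalarTower O O' Ω := IsScalarTower.of_algebraMap_eq' rfl
  have _ : IsScalarTower A O Ω := IsScalarTower.of_algebraMap_eq' rfl
  obtain ⟨_, h1, h2, y, hy, hloc⟩ := Groth.Agent.Pi1.H133.LocBase.locBase A O O' Ω R hlaz P hP B
  have hΩ : RingHom.ker (algebraMap A Ω) ∈ minimalPrimes A := by
    have e : RingHom.ker (algebraMap A Ω) =
        (RingHom.ker (algebraMap O O')).comap (algebraMap A O) := by
      ext a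
      rw [Ideal.mem_comap, RingHom.mem_ker, RingHom.mem_ker]
      change algebraMap O' Ω (algebraMap O O' (algebraMap A O a)) = 0 ↔ _
      exact map_eq_zero_iff _ (IsFractionRing.injective O' Ω)
    rw [e]
    exact comap_mem_minimalPrimes hker
  refine h f φ x R V₁ htame hAR Ω hΩ B y K L v ?_ hadj
  rw [hv]
  congr 2
  ext a
  change algebraMap K L (algebraMap B K (algebraMap (O' ⊗[O] R) B (1 ⊗ₜ a))) =
    algebraMap K L (algebraMap B K (algebraMap (R ⊗[A] Ω) B (a ⊗ₜ 1)))
  rw [h1]

end Groth.Agent.Pi1.H560.TameStage
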